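import Groth.Agent.RamMinLib.Core
import Groth.Agent.S2136
import Groth.Agent.S9812
import Groth.Agent.NormalLib.Serre
import Groth.Agent.UOpenLib.CompleteSection
import Groth.Agent.CommAlgDim.Depth
import Groth.Agent.SMTLib.S2Height
import Mathlib.RingTheory.Unramified.LocalRing
import Mathlib.RingTheory.Regular.Flat

/-!
# A single branch of a finite extension over the completion of the base
-/

set_option autoImplicit false
set_option linter.style.haveILetI false
set_option backward.isDefEq.respectTransparency false
set_option backward.isDefEq.respectTransparency.types false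
set_option maxHeartbeats 1000000

universe u

open IsLocalRing RingTheory.Sequence
open scoped TensorProduct

noncomputable section

namespace RamMin

variable {A B : Type u} [CommRing A] [CommRing B] [Algebra A B]

/-- A finite extension of domains over a normal base is étale near a point where it is unramified. -/
theorem exists_etale_away [IsDomain A] [IsIntegrallyClosed A] [IsDomain B] [Algebra.FiniteType A B]
    (hinj : Function.Injective (algebraMap A B)) (Q : Ideal B) [Q.IsPrime] (hQ : Algebra.IsUnramifiedAt A Q) :
    ∃ g : B, g ∉ Q ∧ Algebra.Etale A (Localization.Away g) := by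
  haveI := hQ
  let p := Q.under A
  haveI : IsDomain (Localization.AtPrime p) := IsLocalization.isDomain_localization p.primeCompl_le_nonZeroDivisors
  haveI : IsIntegrallyClosed (Localization.AtPrime p) :=
    isIntegrallyClosed_of_isLocalization (Localization.AtPrime p) p.primeCompl p.primeCompl_le_nonZeroDivisors
  refine Groth.Agent.S2136.result Q p (Groth.Agent.S9812.result (Localization.AtPrime p)) ?_
  refine (injective_iff_map_eq_zero _).2 fun x hx => ?_
  obtain ⟨a, s, rfl⟩ := IsLocalization.exists_mk'_eq p.primeCompl x
  rw [Localization.localRingHom_mk', IsLocalization.mk'_eq_zero_iff] at hx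
  obtain ⟨t, ht⟩ := hx
  have ht0 : (t : B) ≠ 0 := fun h => t.2 (by rw [SetLike.mem_coe, h]; exact zero_mem Q)
  rw [(mul_eq_zero.1 ht).resolve_left ht0 |> fun h => hinj (h.trans (map_zero _).symm), IsLocalization.mk'_zero]

/-- A pair forming a regular sequence inside a prime of height at least two of a normal domain. -/
theorem exists_regular_pair [IsDomain B] [IsNoetherianRing B] [IsIntegrallyClosed B] (q : Ideal B) [q.IsPrime]
    (hq : (2 : ℕ∞) ≤ q.height) : ∃ a ∈ q, ∃ b ∈ q, IsWeaklyRegular B [a, b] := by
  classical
  obtain ⟨a, ha, ha0⟩ := Submodule.exists_mem_ne_zero_of_ne_bot (p := q) fun h => by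
    subst h
    rw [Ideal.height_bot] at hq
    exact absurd hq (by norm_num)
  have hfin := associatedPrimes.finite B (B ⧸ Ideal.span {a})
  have hns : ¬ (q : Set B) ⊆ ⋃ Q ∈ (↑hfin.toFinset : Set (Ideal B)), (Q : Set B) := by
    intro hc
    obtain ⟨Q, hQ, hle⟩ := (Ideal.subset_union_prime (f := fun Q : Ideal B => Q) ⊥ ⊥
      (fun Q hQ _ _ => ((Set.Finite.mem_toFinset hfin).1 hQ).isPrime)).1 hc
    have h1 := NormalLib.height_eq_one_of_mem_associatedPrimes ha0 ((Set.Finite.mem_toFinset hfin).1 hQ)
    exact absurd ((hq.trans (Ideal.height_mono hle)).trans h1.le) (by norm_num)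
  obtain ⟨b, hb, hb1⟩ := Set.not_subset.1 hns
  refine ⟨a, ha, b, hb, (isWeaklyRegular_cons_iff _ _ _).2 ⟨IsSMulRegular.of_right_eq_zero_of_smul fun z hz => ?_,
    (isWeaklyRegular_singleton_iff _ _).2 ?_⟩⟩
  · rw [smul_eq_mul] at hz
    exact (mul_eq_zero.1 hz).resolve_left ha0
  · rw [← LinearEquiv.isSMulRegular_congr (SMTLib.quotSpanEquiv a)]
    by_contra hreg
    have hmem : b ∈ {r : B | IsSMulRegular (B ⧸ Ideal.span {a}) r}ᶜ := hreg
    rw [← biUnion_associatedPrimes_eq_compl_regular] at hmem
    obtain ⟨Q, hQ, hbQ⟩ := Set.mem_iUnion₂.1 hmem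
    exact hb1 (Set.mem_biUnion (Finset.mem_coe.2 ((Set.Finite.mem_toFinset hfin).2 hQ)) hbQ)

variable (C : Type u) [CommRing C] [IsLocalRing C] [Algebra A C]

/-- Purity of the base makes the branch through `q` étale over the completed base. -/
theorem formallyUnramified_branch [IsNoetherianRing C] [IsAdicComplete (maximalIdeal C) C] [Module.Flat A C]
    [IsDomain A] [IsNoetherianRing A] [IsIntegrallyClosed A] [IsDomain B] [IsIntegrallyClosed B] [Module.Finite A B]
    (hinj : Function.Injective (algebraMap A B)) (hC : (2 : ℕ∞) ≤ LocCoh.depth C C) (hp : FEt.PurityHolds C)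
    (q : Ideal B) [q.IsPrime] (hqC : q.comap (algebraMap A B) = (maximalIdeal C).comap (algebraMap A C))
    (hmC : ((maximalIdeal C).comap (algebraMap A C)).map (algebraMap A C) = maximalIdeal C)
    (hq : (2 : ℕ∞) ≤ q.height)
    (hunr : ∀ (Q : Ideal B) [Q.IsPrime], Q < q → Algebra.IsUnramifiedAt A Q)
    (M : Ideal (C ⊗[A] B)) [M.IsPrime]
    (hM : M.comap (Algebra.TensorProduct.includeRight (R := A) (A := C) (B := B)).toRingHom = q)
    (hMC : M.comap (algebraMap C (C ⊗[A] B)) = maximalIdeal C) :
    Algebra.Etale C (Localization.AtPrime M) := by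
  haveI : IsNoetherianRing B := IsNoetherianRing.of_finite A B
  let D := C ⊗[A] B
  let L := Localization.AtPrime M
  let ι : B →+* D := (Algebra.TensorProduct.includeRight (R := A) (A := C) (B := B)).toRingHom
  haveI : Algebra.QuasiFinite C D := inferInstance
  haveI : Module.Finite C L := UOpenLib.finite_localization_of_quasiFinite M hMC
  haveI : IsNoetherianRing D := IsNoetherianRing.of_finite C D
  haveI : IsNoetherianRing L := IsLocalization.isNoetherianRing M.primeCompl _ inferInstance
  have hloc : ∀ (R : Ideal L) [R.IsPrime], R.comap (algebraMap C L) = maximalIdeal C → R = maximalIdeal L := by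
    intro R _ hR
    refine IsLocalRing.eq_maximalIdeal (Ideal.isMaximal_of_isIntegral_of_isMaximal_comap (R := C) R ?_)
    rw [hR]
    infer_instance
  refine etale_of_purity hC hp (fun R hR => ?_) (fun R hR => ?_)
  · let R' := R.asIdeal.comap (algebraMap D L)
    let Q := R'.comap ι
    have hR'M : R' ≤ M := by
      have h1 := Ideal.comap_mono (f := algebraMap D L) (IsLocalRing.le_maximalIdeal R.isPrime.ne_top)
      rwa [← Ideal.under_def, ← Ideal.under_def, Localization.AtPrime.under_maximalIdeal] at h1
    have hQq : Q ≤ q := hM ▸ Ideal.comap_mono hR'M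
    have hne : Q ≠ q := by
      intro hQ
      refine hR (le_antisymm (IsLocalRing.le_maximalIdeal (Ideal.comap_isPrime _ R.asIdeal).ne_top) ?_)
      rw [← hmC, Ideal.map_le_iff_le_comap]
      intro a ha
      rw [← hqC, ← hQ] at ha
      have h2 : algebraMap D L (ι (algebraMap A B a)) ∈ R.asIdeal := ha
      rw [show ι (algebraMap A B a) = algebraMap C D (algebraMap A C a) from
        (Algebra.TensorProduct.includeRight (R := A) (A := C) (B := B)).commutes a] at h2
      show algebraMap C L (algebraMap A C a) ∈ R.asIdeal
      rwa [IsScalarTower.algebraMap_apply C D L]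
    obtain ⟨g, hg, het⟩ := exists_etale_away hinj Q (hunr Q (lt_of_le_of_ne hQq hne))
    haveI := het
    have het' : Algebra.Etale C (Localization.Away ((1 : C) ⊗ₜ[A] g)) :=
      Algebra.Etale.of_equiv (IsLocalization.Away.tensorProductEquivTMulRight A C g (Localization.Away g))
    haveI : Algebra.FinitePresentation C D := Algebra.FinitePresentation.of_finiteType.1 inferInstance
    haveI hR' : Algebra.IsEtaleAt C R' :=
      Algebra.basicOpen_subset_etaleLocus_iff_etale.2 het' (show (⟨R', inferInstance⟩ : PrimeSpectrum D) ∈
        PrimeSpectrum.basicOpen ((1 : C) ⊗ₜ[A] g) from hg)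
    exact Algebra.FormallyEtale.of_equiv
      ((IsLocalization.localizationLocalizationAtPrimeIsoLocalization M.primeCompl R.asIdeal).restrictScalars C)
  · obtain rfl : R = ⟨maximalIdeal L, inferInstance⟩ := PrimeSpectrum.ext (hloc R.asIdeal hR)
    obtain ⟨a, ha, b, hb, hab⟩ := exists_regular_pair q hq
    letI : Algebra B D := Algebra.TensorProduct.rightAlgebra
    haveI : Module.Flat B D := Module.Flat.of_linearEquiv (Algebra.TensorProduct.commRight A B C).symm.toLinearEquiv
    let LL := Localization.AtPrime (maximalIdeal L)
    haveI : Module.Flat D L := IsLocalization.flat L M.primeCompl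
    haveI : Module.Flat B L := Module.Flat.trans B D L
    haveI : Module.Flat L LL := IsLocalization.flat LL (maximalIdeal L).primeCompl
    haveI : Module.Flat B LL := Module.Flat.trans B L LL
    haveI : IsNoetherianRing LL := IsLocalization.isNoetherianRing (maximalIdeal L).primeCompl _ inferInstance
    have hmem : ∀ x ∈ q, algebraMap B LL x ∈ maximalIdeal LL := fun x hx =>
      (IsLocalization.AtPrime.to_map_mem_maximal_iff LL (maximalIdeal L) (algebraMap B L x)).2
        ((IsLocalization.AtPrime.to_map_mem_maximal_iff L M (algebraMap B D x)).2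
          (show x ∈ M.comap ι from hM.symm ▸ hx))
    rw [show (2 : ℕ∞) = ((2 : ℕ) : ℕ∞) from rfl, CommAlgDim.le_depth_iff]
    refine ⟨[a, b].map (algebraMap B LL), rfl, ?_, hab.of_flat⟩
    intro x hx
    simp only [List.map_cons, List.map_nil, List.mem_cons, List.not_mem_nil, or_false] at hx
    rcases hx with rfl | rfl
    · exact hmem a ha
    · exact hmem b hb

/-- Unramifiedness descends from the completed base. -/
theorem isUnramifiedAt_of_branch [IsNoetherianRing A] [Module.Finite A B] [Module.Flat A C] (q : Ideal B) [q.IsPrime]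
    (P : Ideal A) [P.IsPrime] [q.LiesOver P] [Algebra (Localization.AtPrime P) C] [IsScalarTower A (Localization.AtPrime P) C]
    (hmC : (maximalIdeal (Localization.AtPrime P)).map (algebraMap (Localization.AtPrime P) C) = maximalIdeal C)
    (hres : ∀ c : C, ∃ a : Localization.AtPrime P, c - algebraMap (Localization.AtPrime P) C a ∈ maximalIdeal C)
    (M : Ideal (C ⊗[A] B)) [M.IsPrime]
    (hM : M.comap (Algebra.TensorProduct.includeRight (R := A) (A := C) (B := B)).toRingHom = q)
    (hMC : M.comap (algebraMap C (C ⊗[A] B)) = maximalIdeal C)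
    (hu : Algebra.FormallyUnramified C (Localization.AtPrime M)) : Algebra.IsUnramifiedAt A q := by
  haveI := hu
  let Ap := Localization.AtPrime P
  let Bq := Localization.AtPrime q
  let D := C ⊗[A] B
  let L := Localization.AtPrime M
  letI : Algebra B D := Algebra.TensorProduct.rightAlgebra
  haveI : Module.Flat B D := Module.Flat.of_linearEquiv (Algebra.TensorProduct.commRight A B C).symm.toLinearEquiv
  haveI : Module.Flat D L := IsLocalization.flat L M.primeCompl
  haveI : Module.Flat B L := Module.Flat.trans B D L
  have hqu : ∀ y : q.primeCompl, IsUnit (algebraMap B L y) := fun y =>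
    IsLocalization.map_units L (⟨algebraMap B D y, fun h => y.2 (hM ▸ h)⟩ : M.primeCompl)
  letI : Algebra Bq L := (IsLocalization.lift hqu).toAlgebra
  haveI : IsScalarTower B Bq L := IsScalarTower.of_algebraMap_eq fun x => (IsLocalization.lift_eq hqu x).symm
  haveI : Module.Flat Bq L := (Module.flat_iff_of_isLocalization Bq q.primeCompl L).2 inferInstance
  haveI : IsLocalHom (algebraMap Bq L) := ⟨fun x hx => by
    obtain ⟨b, s, rfl⟩ := IsLocalization.exists_mk'_eq q.primeCompl x
    rw [IsLocalization.AtPrime.isUnit_mk'_iff Bq q]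
    intro hb
    have hb' : algebraMap B D b ∈ M := (show b ∈ M.comap _ from hM.symm ▸ hb)
    refine ((IsLocalization.AtPrime.to_map_mem_maximal_iff L M _).2 hb') ?_
    have h1 := congrArg (algebraMap Bq L) (IsLocalization.mk'_spec Bq b s)
    rw [map_mul, ← IsScalarTower.algebraMap_apply B Bq L, ← IsScalarTower.algebraMap_apply B Bq L] at h1
    show IsUnit (algebraMap B L b)
    rw [← h1]
    exact hx.mul (hqu s)⟩
  haveI : Module.FaithfullyFlat Bq L := Module.FaithfullyFlat.of_flat_of_isLocalHom
  letI : Algebra Ap Bq := (Localization.localRingHom P q (algebraMap A B) (q.over_def P)).toAlgebra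
  haveI : IsScalarTower A Ap Bq := IsScalarTower.of_algebraMap_eq fun x => by
    rw [RingHom.algebraMap_toAlgebra, Localization.localRingHom_to_map, ← IsScalarTower.algebraMap_apply]
  haveI : IsLocalHom (algebraMap Ap Bq) := inferInstanceAs (IsLocalHom (Localization.localRingHom _ _ _ _))
  haveI : IsScalarTower Ap Bq L := IsScalarTower.of_algebraMap_eq' (IsLocalization.ringHom_ext P.primeCompl (RingHom.ext fun x => by
    show algebraMap C L (algebraMap Ap C (algebraMap A Ap x)) = algebraMap Bq L (algebraMap Ap Bq (algebraMap A Ap x))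
    rw [← IsScalarTower.algebraMap_apply A Ap C, ← IsScalarTower.algebraMap_apply A Ap Bq,
      IsScalarTower.algebraMap_apply A B Bq, ← IsScalarTower.algebraMap_apply B Bq L,
      IsScalarTower.algebraMap_apply C D L, IsScalarTower.algebraMap_apply B D L]
    exact congrArg _ ((Algebra.TensorProduct.includeRight (R := A) (A := C) (B := B)).commutes x).symm))
  haveI : IsLocalHom (algebraMap Ap C) := ((IsLocalRing.local_hom_TFAE _).out 2 0).1 hmC.le
  haveI : IsLocalHom (algebraMap C L) := ⟨fun c hc => by
    by_contra hcu
    have h1 : algebraMap C D c ∈ M := (show c ∈ M.comap (algebraMap C D) from hMC.symm ▸ hcu)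
    rw [IsScalarTower.algebraMap_apply C D L] at hc
    exact (IsLocalization.AtPrime.to_map_mem_maximal_iff L M _).2 h1 hc⟩
  haveI : Algebra.EssFiniteType C L := .comp C D L
  haveI : Algebra.EssFiniteType Ap Bq := by
    haveI : Algebra.EssFiniteType A Bq := .comp A B Bq
    exact .of_comp A Ap Bq
  haveI : IsLocalHom (algebraMap Ap L) := RingHom.isLocalHom_comp (algebraMap C L) (algebraMap Ap C)
  obtain ⟨hsepL, hmL⟩ := Algebra.FormallyUnramified.iff_map_maximalIdeal_eq.1 hu
  haveI : Algebra.FormallyUnramified Ap Bq := by
    refine Algebra.FormallyUnramified.iff_map_maximalIdeal_eq.2 ⟨?_, ?_⟩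
    · have hsurj : Function.Surjective (algebraMap (ResidueField Ap) (ResidueField C)) := fun y => by
        obtain ⟨c, rfl⟩ := IsLocalRing.residue_surjective y
        obtain ⟨a, ha⟩ := hres c
        refine ⟨residue Ap a, ?_⟩
        show residue C (algebraMap Ap C a) = residue C c
        exact ((Ideal.Quotient.mk_eq_mk_iff_sub_mem _ _).2 ha).symm
      haveI : IsScalarTower (ResidueField Ap) (ResidueField C) (ResidueField L) :=
        IsScalarTower.of_algebraMap_eq fun y => by
          obtain ⟨a, rfl⟩ := IsLocalRing.residue_surjective y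
          rfl
      haveI : IsScalarTower (ResidueField Ap) (ResidueField Bq) (ResidueField L) :=
        IsScalarTower.of_algebraMap_eq fun y => by
          obtain ⟨a, rfl⟩ := IsLocalRing.residue_surjective y
          exact congrArg (residue L) (IsScalarTower.algebraMap_apply Ap Bq L a)
      haveI : Algebra.IsSeparable (ResidueField Ap) (ResidueField C) := ⟨fun y => by
        obtain ⟨a, rfl⟩ := hsurj y
        exact isSeparable_algebraMap a⟩
      haveI : Algebra.IsSeparable (ResidueField Ap) (ResidueField L) :=
        Algebra.IsSeparable.trans (ResidueField Ap) (ResidueField C) (ResidueField L)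
      exact Algebra.isSeparable_tower_bot_of_isSeparable (ResidueField Ap) (ResidueField Bq) (ResidueField L)
    · refine le_antisymm (Ideal.map_le_iff_le_comap.2 fun a ha => map_nonunit (algebraMap Ap Bq) a ha) ?_
      rw [← Ideal.comap_map_eq_self_of_faithfullyFlat (B := L) (Ideal.map (algebraMap Ap Bq) (maximalIdeal Ap)),
        Ideal.map_map, ← IsScalarTower.algebraMap_eq, IsScalarTower.algebraMap_eq Ap C L, ← Ideal.map_map, hmC, hmL]
      exact fun x hx => map_nonunit (algebraMap Bq L) x hx
  haveI : Algebra.FormallyUnramified A Ap := Algebra.FormallyUnramified.of_isLocalization P.primeCompl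
  exact Algebra.FormallyUnramified.comp A Ap Bq

end RamMin
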