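import Groth.Agent.PunctFEtLib.Punctured
import Mathlib.AlgebraicGeometry.Morphisms.Etale
import Mathlib.RingTheory.Etale.Locus

/-!
# Purity makes finite algebras of depth two unramified
-/

set_option autoImplicit false
set_option linter.style.haveILetI false
set_option backward.isDefEq.respectTransparency false
set_option backward.isDefEq.respectTransparency.types false
set_option maxHeartbeats 1000000

universe u

open CategoryTheory CategoryTheory.Limits AlgebraicGeometry TopologicalSpace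
open PunctFEtLib (Invisible)

noncomputable section

namespace RamMin

variable {C B : Type u} [CommRing C] [CommRing B] [Algebra C B]

/-- An open of the spectrum inside the étale locus is étale over the base. -/
theorem etale_opensι_comp [Algebra.FinitePresentation C B] (V : (Spec (CommRingCat.of B)).Opens)
    (hV : ∀ Q : PrimeSpectrum B, Q ∈ V → Algebra.IsEtaleAt C Q.asIdeal) :
    Etale (V.ι ≫ Spec.map (CommRingCat.ofHom (algebraMap C B))) := by
  have hloc : ∀ x : (V : Scheme.{u}), ∃ f : B, (x.1 : PrimeSpectrum B) ∈ PrimeSpectrum.basicOpen f ∧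
      PrimeSpectrum.basicOpen f ≤ V ∧ Algebra.Etale C (Localization.Away f) := by
    intro x
    obtain ⟨_, ⟨f, rfl⟩, hxf, hfV⟩ :=
      PrimeSpectrum.isTopologicalBasis_basic_opens.exists_subset_of_mem_open (a := (x.1 : PrimeSpectrum B)) x.2 V.2
    exact ⟨f, hxf, hfV, Algebra.basicOpen_subset_etaleLocus_iff_etale.1 fun Q hQ => hV Q (hfV hQ)⟩
  choose f hxf hfV het using hloc
  let T := fun x : (V : Scheme.{u}) => V.ι ⁻¹ᵁ (PrimeSpectrum.basicOpen (f x) : (Spec (CommRingCat.of B)).Opens)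
  refine (IsZariskiLocalAtSource.iff_of_iSup_eq_top (P := @Etale) T
    (top_le_iff.1 fun x _ => Opens.mem_iSup.2 ⟨x, hxf x⟩)).2 fun x => ?_
  let i := Spec.map (CommRingCat.ofHom (algebraMap B (Localization.Away (f x))))
  haveI : Etale (i ≫ Spec.map (CommRingCat.ofHom (algebraMap C B))) := by
    rw [← Spec.map_comp, HasRingHomProperty.Spec_iff (P := @Etale)]
    show RingHom.Etale ((algebraMap B (Localization.Away (f x))).comp (algebraMap C B))
    rw [← IsScalarTower.algebraMap_eq, RingHom.etale_algebraMap]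
    exact het x
  haveI : IsOpenImmersion i := IsOpenImmersion.of_isLocalization (f x)
  let l : (T x : Scheme.{u}) ⟶ Spec (CommRingCat.of (Localization.Away (f x))) :=
    IsOpenImmersion.lift i ((T x).ι ≫ V.ι) (by
      rintro _ ⟨z, rfl⟩
      show _ ∈ Set.range (PrimeSpectrum.comap (algebraMap B (Localization.Away (f x))))
      rw [PrimeSpectrum.localization_away_comap_range (Localization.Away (f x)) (f x)]
      exact z.2)
  have hl : l ≫ i = (T x).ι ≫ V.ι := IsOpenImmersion.lift_fac _ _ _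
  haveI : IsOpenImmersion (l ≫ i) := by rw [hl]; infer_instance
  haveI : IsOpenImmersion l := IsOpenImmersion.of_comp l i
  rw [← Category.assoc, ← hl, Category.assoc]
  infer_instance

/-- Over a ring where purity holds, a finite algebra of depth two which is étale off the closed fibre is étale. -/
theorem etale_of_purity [IsNoetherianRing C] [IsLocalRing C] [Module.Finite C B]
    (hC : (2 : ℕ∞) ≤ LocCoh.depth C C) (hp : FEt.PurityHolds C)
    (het : ∀ Q : PrimeSpectrum B, Q.asIdeal.comap (algebraMap C B) ≠ IsLocalRing.maximalIdeal C →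
      Algebra.IsEtaleAt C Q.asIdeal)
    (hdep : ∀ Q : PrimeSpectrum B, Q.asIdeal.comap (algebraMap C B) = IsLocalRing.maximalIdeal C →
      (2 : ℕ∞) ≤ LocCoh.depth (Localization.AtPrime Q.asIdeal) (Localization.AtPrime Q.asIdeal)) :
    Algebra.Etale C B := by
  haveI : IsNoetherianRing B := IsNoetherianRing.of_finite C B
  haveI : Algebra.FinitePresentation C B := Algebra.FinitePresentation.of_finiteType.1 inferInstance
  let X := Spec (CommRingCat.of C)
  let Z := Spec (CommRingCat.of B)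
  let p : Z ⟶ X := Spec.map (CommRingCat.ofHom (algebraMap C B))
  haveI : IsFinite p := by
    rw [IsFinite.SpecMap_iff]
    exact RingHom.finite_algebraMap.2 inferInstance
  let U := FEt.puncturedSpec C
  have hmem : ∀ Q : Z, Q ∈ p ⁻¹ᵁ U ↔ Q.asIdeal.comap (algebraMap C B) ≠ IsLocalRing.maximalIdeal C := fun Q =>
    ⟨fun h e => h (PrimeSpectrum.ext e), fun h e => h (congrArg PrimeSpectrum.asIdeal e)⟩
  have hVi : Invisible (p ⁻¹ᵁ U) := PunctFEtLib.invisible_of_depth _ fun z hz => by
    rw [PunctFEtLib.depth_stalk_spec]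
    exact hdep z (not_not.1 fun h => hz ((hmem z).2 h))
  haveI : Etale (p ∣_ U) := by
    haveI := etale_opensι_comp (C := C) (p ⁻¹ᵁ U) fun Q hQ => het Q ((hmem Q).1 hQ)
    haveI : Etale ((p ∣_ U) ≫ U.ι) := by rw [morphismRestrict_ι]; assumption
    exact Etale.of_comp (p ∣_ U) U.ι
  haveI : IsFinite (p ∣_ U) := MorphismProperty.of_isPullback (isPullback_morphismRestrict p U).flip inferInstance
  let V₀ : FEt.Cat (U : Scheme.{u}) := MorphismProperty.Over.mk ⊤ (p ∣_ U) ⟨inferInstance, inferInstance⟩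
  haveI : (FEt.restrict U.ι).EssSurj := hp
  let E := (FEt.restrict U.ι).objPreimage V₀
  let ε := (FEt.restrict U.ι).objObjPreimageIso V₀
  let YE : Scheme.{u} := E.left
  let eh : YE ⟶ X := E.hom
  haveI : IsFinite eh := E.prop.1
  haveI : Etale eh := E.prop.2
  have hEi : Invisible (eh ⁻¹ᵁ U) := PunctFEtLib.invisible_punctured C hC E
  let γ : pullback eh U.ι ≅ ((p ⁻¹ᵁ U : Z.Opens) : Scheme.{u}) :=
    (MorphismProperty.Over.forget _ _ _ ⋙ Over.forget _).mapIso ε
  have hγ : γ.hom ≫ (p ∣_ U) = pullback.snd eh U.ι := MorphismProperty.Over.w ε.hom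
  let δ : ((eh ⁻¹ᵁ U : YE.Opens) : Scheme.{u}) ≅ ((p ⁻¹ᵁ U : Z.Opens) : Scheme.{u}) :=
    (pullbackRestrictIsoRestrict eh U).symm ≪≫ γ
  have hδ : δ.hom ≫ (p ⁻¹ᵁ U).ι ≫ p = (eh ⁻¹ᵁ U).ι ≫ eh := by
    rw [← morphismRestrict_ι, ← morphismRestrict_ι]
    show ((pullbackRestrictIsoRestrict eh U).inv ≫ γ.hom) ≫ (p ∣_ U) ≫ U.ι = _
    rw [Category.assoc, reassoc_of% hγ, Iso.inv_comp_eq, pullbackRestrictIsoRestrict_hom_morphismRestrict_assoc]
  haveI : IsAffine YE := isAffine_of_isAffineHom eh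
  obtain ⟨G, hG1, hG2⟩ := PunctFEtLib.exists_extend hVi (q := eh) p (δ.inv ≫ (eh ⁻¹ᵁ U).ι) (by
    rw [Category.assoc, ← hδ, δ.inv_hom_id_assoc])
  obtain ⟨H, hH1, -⟩ := PunctFEtLib.exists_extend hEi (q := p) eh (δ.hom ≫ (p ⁻¹ᵁ U).ι) (by
    rw [Category.assoc, hδ])
  have hb : ∀ {W : Scheme.{u}} {V : W.Opens}, Invisible V → Function.Bijective V.ι.appTop := by
    intro W V hV
    have e : V.ι ''ᵁ ⊤ = (⊤ : W.Opens) ⊓ V := by rw [Scheme.Opens.ι_image_top, top_inf_eq]
    exact PunctFEtLib.map_bijective_of_eq hV e le_top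
  have h1 : G ≫ H = 𝟙 Z := PunctFEtLib.ext_affine (hb hVi) (by
    rw [reassoc_of% hG1, hH1, Iso.inv_hom_id_assoc, Category.comp_id])
  have h2 : H ≫ G = 𝟙 YE := PunctFEtLib.ext_affine (hb hEi) (by
    rw [reassoc_of% hH1, hG1, Iso.hom_inv_id_assoc, Category.comp_id])
  haveI : IsIso G := ⟨H, h1, h2⟩
  have hp : Etale p := by rw [← hG2]; infer_instance
  rw [← RingHom.etale_algebraMap]
  exact (HasRingHomProperty.Spec_iff (P := @Etale)).1 hp

end RamMin
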