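import Groth.Prelude.Def_FEt
import Mathlib.RingTheory.Etale.StandardEtale
import Mathlib.RingTheory.Unramified.Field
import Mathlib.RingTheory.DiscreteValuationRing.Basic
import Mathlib.AlgebraicGeometry.Morphisms.Etale
import Mathlib.RingTheory.AdjoinRoot
import Mathlib.RingTheory.Flat.TorsionFree
import Mathlib.RingTheory.Ideal.GoingUp

/-!
# Purity fails in dimension zero and one
-/

set_option autoImplicit false
set_option linter.style.haveILetI false
set_option backward.isDefEq.respectTransparency false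
set_option backward.isDefEq.respectTransparency.types false
set_option maxHeartbeats 1000000

universe u

open CategoryTheory CategoryTheory.Limits AlgebraicGeometry Polynomial

noncomputable section

namespace RamMin

theorem not_isEquivalence_of_isField {K : Type u} [CommRing K] [IsLocalRing K] (hK : IsField K) :
    ¬ (FEt.restrict (FEt.puncturedSpec K).ι).IsEquivalence := by
  intro h
  letI := hK.toField
  let X := Spec (CommRingCat.of K)
  let U := FEt.puncturedSpec K
  haveI : IsEmpty (U : Scheme.{u}) := ⟨fun x => x.2 (Subsingleton.elim (α := PrimeSpectrum K) _ _)⟩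
  let e : Spec (CommRingCat.of (Localization.Away (0 : K))) ⟶ X :=
    Spec.map (CommRingCat.ofHom (algebraMap K (Localization.Away (0 : K))))
  haveI : Subsingleton (Localization.Away (0 : K)) :=
    IsLocalization.subsingleton (M := Submonoid.powers (0 : K)) (Submonoid.mem_powers _)
  have he : FEt.prop e := by
    refine ⟨?_, ?_⟩
    · rw [IsFinite.SpecMap_iff]
      exact RingHom.finite_algebraMap.2 inferInstance
    · rw [HasRingHomProperty.Spec_iff (P := @Etale)]
      exact RingHom.etale_algebraMap.2 (Algebra.Etale.of_isLocalizationAway (0 : K))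
  let Y : FEt.Cat X := MorphismProperty.Over.mk ⊤ e he
  let T : FEt.Cat X := MorphismProperty.Over.mk ⊤ (𝟙 X) (MorphismProperty.id_mem _ X)
  haveI : IsEmpty ↑(pullback e U.ι) := ⟨fun x => isEmptyElim (pullback.snd e U.ι x)⟩
  haveI : IsEmpty ↑(pullback (𝟙 X) U.ι) := ⟨fun x => isEmptyElim (pullback.snd (𝟙 X) U.ι x)⟩
  let i : (FEt.restrict U.ι).obj T ≅ (FEt.restrict U.ι).obj Y :=
    haveI : IsEmpty ((FEt.restrict U.ι).obj T).left := ⟨fun x => isEmptyElim (pullback.snd (𝟙 X) U.ι x)⟩
    haveI : IsEmpty ((FEt.restrict U.ι).obj Y).left := ⟨fun x => isEmptyElim (pullback.snd e U.ι x)⟩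
    MorphismProperty.Over.isoMk (isInitialOfIsEmpty.uniqueUpToIso isInitialOfIsEmpty)
      (isInitialOfIsEmpty.hom_ext _ _)
  let j : T ≅ Y := (FEt.restrict U.ι).preimageIso i
  have hx : Nonempty (PrimeSpectrum K) := inferInstance
  obtain ⟨x⟩ := hx
  exact IsEmpty.false (α := PrimeSpectrum (Localization.Away (0 : K))) (j.hom.left x)

variable {O : Type u} [CommRing O] [IsDomain O] [IsDiscreteValuationRing O]

theorem exists_natCast_ne_zero (O : Type u) [CommRing O] [Nontrivial O] : ∃ n : ℕ, 2 ≤ n ∧ (n : O) ≠ 0 := by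
  by_contra! h
  have h2 := h 2 le_rfl
  have h3 := h 3 (by norm_num)
  push_cast at h2 h3
  exact one_ne_zero (α := O) (by linear_combination h3 - h2)

/-- Powers of a root of a uniformiser cannot live in an étale algebra. -/
theorem not_exists_root {R : Type u} [CommRing R] [Algebra O R] [Module.Finite O R] [Algebra.Etale O R]
    [Nontrivial R] {ϖ : O} (hϖ : Irreducible ϖ) {n : ℕ} (hn : 2 ≤ n) :
    ∀ (k : ℕ) (a : R), a ^ n ≠ algebraMap O R ϖ ^ (n * k + 1) := by
  let m := IsLocalRing.maximalIdeal O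
  have hm : m.map (algebraMap O R) = Ideal.span {algebraMap O R ϖ} := by
    show (IsLocalRing.maximalIdeal O).map _ = _
    rw [hϖ.maximalIdeal_eq, Ideal.map_span, Set.image_singleton]
  have hred : ∀ a : R, a ^ n ∈ m.map (algebraMap O R) → a ∈ m.map (algebraMap O R) := by
    intro a ha
    letI := Ideal.Quotient.field m
    haveI : Algebra.FormallyUnramified O (R ⧸ m.map (algebraMap O R)) :=
      Algebra.FormallyUnramified.comp O R _
    haveI : Algebra.FormallyUnramified (O ⧸ m) (R ⧸ m.map (algebraMap O R)) :=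
      Algebra.FormallyUnramified.of_restrictScalars O _ _
    haveI : Algebra.EssFiniteType (O ⧸ m) (R ⧸ m.map (algebraMap O R)) :=
      Algebra.EssFiniteType.of_comp O _ _
    haveI := Algebra.FormallyUnramified.isReduced_of_field (K := O ⧸ m) (A := R ⧸ m.map (algebraMap O R))
    rw [← Ideal.Quotient.eq_zero_iff_mem] at ha ⊢
    rw [map_pow] at ha
    exact (IsNilpotent.eq_zero ⟨n, ha⟩)
  have hreg : IsSMulRegular R ϖ :=
    Module.Flat.isSMulRegular_of_nonZeroDivisors (mem_nonZeroDivisors_of_ne_zero hϖ.ne_zero)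
  have hcancel : ∀ (j : ℕ) (x y : R), algebraMap O R ϖ ^ j * x = algebraMap O R ϖ ^ j * y → x = y := by
    intro j x y h
    refine (hreg.pow j) ?_
    show ϖ ^ j • x = ϖ ^ j • y
    rwa [Algebra.smul_def, Algebra.smul_def, map_pow]
  intro k
  induction k with
  | zero =>
    intro a ha
    have h1 : a ∈ m.map (algebraMap O R) := hred a (by rw [ha, hm, mul_zero, zero_add, pow_one]; exact Ideal.mem_span_singleton_self _)
    rw [hm, Ideal.mem_span_singleton] at h1
    obtain ⟨b, rfl⟩ := h1
    obtain ⟨n', rfl⟩ : ∃ n', n = n' + 2 := ⟨n - 2, by omega⟩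
    have h2 : algebraMap O R ϖ ^ 1 * (algebraMap O R ϖ * (algebraMap O R ϖ ^ n' * b ^ (n' + 2))) = algebraMap O R ϖ ^ 1 * 1 := by
      rw [mul_pow] at ha
      rw [mul_zero, zero_add, pow_one] at ha
      rw [pow_one, mul_one, ← mul_assoc, ← mul_assoc]
      conv_rhs => rw [← ha]
      ring
    have h3 : m.map (algebraMap O R) = ⊤ := by
      rw [hm, Ideal.span_singleton_eq_top]
      exact IsUnit.of_mul_eq_one _ (hcancel 1 _ _ h2)
    have h4 : (⊤ : Submodule O R) ≤ m • ⊤ := by
      rw [Ideal.smul_top_eq_map, h3]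
      exact fun x _ => trivial
    have h5 := Submodule.eq_bot_of_le_smul_of_le_jacobson_bot m (⊤ : Submodule O R) Module.Finite.fg_top h4
      (by rw [IsLocalRing.jacobson_eq_maximalIdeal ⊥ bot_ne_top])
    exact one_ne_zero (α := R) ((Submodule.mem_bot O).1 (h5 ▸ Submodule.mem_top))
  | succ k ih =>
    intro a ha
    have h1 : a ∈ m.map (algebraMap O R) := hred a (by
      rw [ha, hm]
      exact Ideal.pow_mem_of_mem _ (Ideal.mem_span_singleton_self _) _ (by omega))
    rw [hm, Ideal.mem_span_singleton] at h1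
    obtain ⟨b, rfl⟩ := h1
    refine ih b (hcancel n _ _ ?_)
    rw [← mul_pow, ha, ← pow_add]
    congr 1
    ring

theorem not_purityHolds_of_dvr : ¬ FEt.PurityHolds O := by
  intro hp
  obtain ⟨ϖ, hϖ⟩ := IsDiscreteValuationRing.exists_irreducible O
  obtain ⟨n, hn, hn0⟩ := exists_natCast_ne_zero O
  obtain ⟨m, u, hu⟩ := IsDiscreteValuationRing.eq_unit_mul_pow_irreducible hn0 hϖ
  let f : O[X] := X ^ n - C ϖ
  have hf : f.Monic := monic_X_pow_sub_C _ (by omega)
  let SP : StandardEtalePair O :=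
    { f := f
      monic_f := hf
      g := C ϖ
      cond := ⟨X * C (↑u⁻¹ : O), -(C (n : O) * C (↑u⁻¹ : O)), m + 1, by
        have hd : derivative f = C (n : O) * X ^ (n - 1) := by
          simp [f, derivative_X_pow]
        have h1 : (X : O[X]) ^ (n - 1) * X = X ^ n := by
          rw [← pow_succ, Nat.sub_add_cancel (by omega)]
        have h2 : (C (n : O) : O[X]) * C (↑u⁻¹ : O) = C ϖ ^ m := by
          rw [← map_mul, ← map_pow, hu]
          congr 1
          rw [mul_comm, ← mul_assoc, Units.inv_mul, one_mul]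
        rw [hd, pow_succ, ← h2]
        linear_combination (C (n : O) * C (↑u⁻¹ : O)) * h1⟩ }
  let B := AdjoinRoot f
  haveI : Module.Finite O B := (AdjoinRoot.powerBasis' hf).finite
  haveI : Algebra.FinitePresentation O B := Algebra.FinitePresentation.of_finiteType.1 inferInstance
  haveI hBϖ : Algebra.Etale O (Localization.Away (algebraMap O B ϖ)) := Algebra.Etale.of_equiv SP.equivAwayAdjoinRoot
  let X' := Spec (CommRingCat.of O)
  let Z := Spec (CommRingCat.of B)
  let p : Z ⟶ X' := Spec.map (CommRingCat.ofHom (algebraMap O B))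
  let U := FEt.puncturedSpec O
  have hU : U = X'.basicOpen ((Scheme.ΓSpecIso (CommRingCat.of O)).inv ϖ) := by
    rw [basicOpen_eq_of_affine]
    refine TopologicalSpace.Opens.ext (Set.ext fun x => ?_)
    show x ≠ IsLocalRing.closedPoint O ↔ ϖ ∉ x.asIdeal
    constructor
    · intro hx hϖx
      refine hx (PrimeSpectrum.ext (le_antisymm (IsLocalRing.le_maximalIdeal x.isPrime.ne_top) ?_))
      show IsLocalRing.maximalIdeal O ≤ x.asIdeal
      rw [hϖ.maximalIdeal_eq, Ideal.span_singleton_le_iff_mem]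
      exact hϖx
    · rintro hx rfl
      exact hx (show ϖ ∈ IsLocalRing.maximalIdeal O from hϖ.not_isUnit)
  haveI : IsFinite p := by
    rw [IsFinite.SpecMap_iff]
    exact RingHom.finite_algebraMap.2 inferInstance
  haveI : Etale (p ∣_ U) := by
    let i := Spec.map (CommRingCat.ofHom (algebraMap B (Localization.Away (algebraMap O B ϖ))))
    haveI : Etale (i ≫ p) := by
      rw [← Spec.map_comp, HasRingHomProperty.Spec_iff (P := @Etale)]
      show RingHom.Etale ((algebraMap B (Localization.Away (algebraMap O B ϖ))).comp (algebraMap O B))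
      rw [← IsScalarTower.algebraMap_eq, RingHom.etale_algebraMap]
      exact hBϖ
    haveI : IsOpenImmersion i := IsOpenImmersion.of_isLocalization (algebraMap O B ϖ)
    let l : ((p ⁻¹ᵁ U : Z.Opens) : Scheme.{u}) ⟶ Spec (CommRingCat.of (Localization.Away (algebraMap O B ϖ))) :=
      IsOpenImmersion.lift i (p ⁻¹ᵁ U).ι (by
        rw [Scheme.Opens.range_ι]
        intro z hz
        show z ∈ Set.range (PrimeSpectrum.comap (algebraMap B (Localization.Away (algebraMap O B ϖ))))
        rw [PrimeSpectrum.localization_away_comap_range (Localization.Away (algebraMap O B ϖ)) (algebraMap O B ϖ)]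
        have hz' : p z ∈ U := hz
        rw [hU, basicOpen_eq_of_affine] at hz'
        exact hz')
    have hl : l ≫ i = (p ⁻¹ᵁ U).ι := IsOpenImmersion.lift_fac _ _ _
    haveI : IsOpenImmersion (l ≫ i) := by rw [hl]; infer_instance
    haveI : IsOpenImmersion l := IsOpenImmersion.of_comp l i
    haveI : Etale ((p ∣_ U) ≫ U.ι) := by
      rw [morphismRestrict_ι, ← hl, Category.assoc]
      infer_instance
    exact Etale.of_comp (p ∣_ U) U.ι
  haveI : IsFinite (p ∣_ U) := MorphismProperty.of_isPullback (isPullback_morphismRestrict p U).flip inferInstance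
  let V₀ : FEt.Cat (U : Scheme.{u}) := MorphismProperty.Over.mk ⊤ (p ∣_ U) ⟨inferInstance, inferInstance⟩
  haveI : (FEt.restrict U.ι).EssSurj := hp
  let E := (FEt.restrict U.ι).objPreimage V₀
  let ε := (FEt.restrict U.ι).objObjPreimageIso V₀
  let YE : Scheme.{u} := E.left
  let eh : YE ⟶ X' := E.hom
  haveI : IsFinite eh := E.prop.1
  haveI : Etale eh := E.prop.2
  haveI : IsAffine YE := isAffine_of_isAffineHom eh
  let γ : pullback eh U.ι ≅ ((p ⁻¹ᵁ U : Z.Opens) : Scheme.{u}) :=
    (MorphismProperty.Over.forget _ _ _ ⋙ Over.forget _).mapIso ε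
  have hγ : γ.hom ≫ (p ∣_ U) = pullback.snd eh U.ι := MorphismProperty.Over.w ε.hom
  let δ : ((eh ⁻¹ᵁ U : YE.Opens) : Scheme.{u}) ≅ ((p ⁻¹ᵁ U : Z.Opens) : Scheme.{u}) :=
    (pullbackRestrictIsoRestrict eh U).symm ≪≫ γ
  have hδ : δ.hom ≫ (p ⁻¹ᵁ U).ι ≫ p = (eh ⁻¹ᵁ U).ι ≫ eh := by
    rw [← morphismRestrict_ι, ← morphismRestrict_ι]
    show ((pullbackRestrictIsoRestrict eh U).inv ≫ γ.hom) ≫ (p ∣_ U) ≫ U.ι = _
    rw [Category.assoc, reassoc_of% hγ, Iso.inv_comp_eq, pullbackRestrictIsoRestrict_hom_morphismRestrict_assoc]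
  let R := Γ(YE, ⊤)
  let ψ : O →+* R := eh.appTop.hom.comp (Scheme.ΓSpecIso (CommRingCat.of O)).inv.hom
  letI : Algebra O R := ψ.toAlgebra
  have hbij : Function.Bijective (Scheme.ΓSpecIso (CommRingCat.of O)).inv.hom :=
    (Scheme.ΓSpecIso (CommRingCat.of O)).commRingCatIsoToRingEquiv.symm.bijective
  haveI : Module.Finite O R := RingHom.finite_algebraMap.1 (RingHom.Finite.comp
    ((HasAffineProperty.iff_of_isAffine (P := @IsFinite)).1 (inferInstance : IsFinite eh)).2
    (RingHom.Finite.of_surjective _ hbij.2))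
  haveI : Algebra.Etale O R := RingHom.etale_algebraMap.1 (RingHom.Etale.respectsIso.2 _
    (Scheme.ΓSpecIso (CommRingCat.of O)).commRingCatIsoToRingEquiv.symm
    ((HasRingHomProperty.iff_of_isAffine (P := @Etale)).1 (inferInstance : Etale eh)))
  -- a point of the cover over the generic point
  have hinj : Function.Injective (algebraMap O B) := AdjoinRoot.of.injective_of_degree_ne_zero (by
    rw [degree_X_pow_sub_C (by omega)]
    exact_mod_cast (show n ≠ 0 by omega))
  obtain ⟨Q, -, hQp, hQ⟩ := Ideal.exists_ideal_over_prime_of_isIntegral (R := O) (S := B) ⊥ ⊥ (by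
    rw [← RingHom.ker_eq_comap_bot, (RingHom.injective_iff_ker_eq_bot _).1 hinj])
  let z : Z := ⟨Q, hQp⟩
  have hz : z ∈ p ⁻¹ᵁ U := by
    intro h
    have h1 : Q.comap (algebraMap O B) = IsLocalRing.maximalIdeal O := congrArg PrimeSpectrum.asIdeal h
    rw [hQ] at h1
    exact IsDiscreteValuationRing.not_a_field O h1.symm
  haveI : Nontrivial R := by
    by_contra hR
    rw [not_nontrivial_iff_subsingleton] at hR
    haveI : Subsingleton Γ(YE, ⊤) := hR
    exact IsEmpty.false (α := PrimeSpectrum Γ(YE, ⊤)) (YE.isoSpec.hom ((δ.inv ≫ (eh ⁻¹ᵁ U).ι) ⟨z, hz⟩))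
  -- the root
  let W : YE.Opens := eh ⁻¹ᵁ U
  let res : R →+* Γ(YE, W) := (YE.presheaf.map (homOfLE (le_top : W ≤ ⊤)).op).hom
  let h : (W : Scheme.{u}) ⟶ Z := δ.hom ≫ (p ⁻¹ᵁ U).ι
  let φ : B →+* Γ(YE, W) :=
    W.topIso.hom.hom.comp (h.appTop.hom.comp (Scheme.ΓSpecIso (CommRingCat.of B)).inv.hom)
  have hφ : ∀ c : O, φ (algebraMap O B c) = res (algebraMap O R c) := by
    intro c
    have h1 : (Scheme.ΓSpecIso (CommRingCat.of B)).inv (algebraMap O B c) =
        p.appTop ((Scheme.ΓSpecIso (CommRingCat.of O)).inv c) := by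
      have := Scheme.ΓSpecIso_inv_naturality (CommRingCat.ofHom (algebraMap O B))
      exact congrArg (fun g => g.hom c) this
    show W.topIso.hom (h.appTop ((Scheme.ΓSpecIso (CommRingCat.of B)).inv (algebraMap O B c))) = _
    rw [h1, ← CommRingCat.comp_apply p.appTop, ← Scheme.Hom.comp_appTop, show h ≫ p = W.ι ≫ eh from (Category.assoc _ _ _).trans hδ,
      Scheme.Hom.comp_appTop, CommRingCat.comp_apply, Scheme.Opens.ι_appTop, ← CommRingCat.comp_apply,
      Scheme.Opens.topIso_hom, ← Functor.map_comp]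
    rfl
  have hy : (φ (AdjoinRoot.root f)) ^ n = res (algebraMap O R ϖ) := by
    rw [← map_pow, ← hφ]
    congr 1
    have := AdjoinRoot.eval₂_root f
    simp only [f, eval₂_sub, eval₂_X_pow, eval₂_C] at this
    exact sub_eq_zero.1 this
  have hW : W = YE.basicOpen (algebraMap O R ϖ) := by
    show eh ⁻¹ᵁ U = _
    rw [hU, Scheme.preimage_basicOpen_top]
    rfl
  have key : ∀ (W' : YE.Opens), W' = YE.basicOpen (algebraMap O R ϖ) → ∀ y : Γ(YE, W'),
      y ^ n = (YE.presheaf.map (homOfLE (le_top : W' ≤ ⊤)).op) (algebraMap O R ϖ) → False := by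
    rintro W' rfl y hy
    haveI := (isAffineOpen_top YE).isLocalization_basicOpen (algebraMap O R ϖ)
    obtain ⟨⟨a, ⟨_, k, rfl⟩⟩, ha⟩ := IsLocalization.surj (Submonoid.powers (algebraMap O R ϖ)) y
    have h1 := congrArg (· ^ n) ha
    simp only [mul_pow] at h1
    have hy' : y ^ n = algebraMap R Γ(YE, YE.basicOpen (algebraMap O R ϖ)) (algebraMap O R ϖ) := hy
    rw [hy'] at h1
    simp only [← map_pow (algebraMap R Γ(YE, YE.basicOpen (algebraMap O R ϖ))), ← map_mul] at h1
    obtain ⟨⟨c, j, rfl⟩, hc⟩ := IsLocalization.exists_of_eq (M := Submonoid.powers (algebraMap O R ϖ)) h1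
    simp only at hc
    refine not_exists_root hϖ hn k a ?_
    have hreg : IsSMulRegular R ϖ := Module.Flat.isSMulRegular_of_nonZeroDivisors (mem_nonZeroDivisors_of_ne_zero hϖ.ne_zero)
    refine (hreg.pow j) ?_
    show ϖ ^ j • a ^ n = ϖ ^ j • algebraMap O R ϖ ^ (n * k + 1)
    rw [Algebra.smul_def, Algebra.smul_def, map_pow, ← hc]
    ring
  exact key W hW _ hy

end RamMin
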