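import Groth.Agent.RamMinLib.Branch
import Groth.Agent.RamMinLib.LowDim
import Groth.Agent.PurePairLib.Main
import Groth.Agent.PurityLib.FlatPurity
import Groth.Agent.GabberRigidLib.Completion
import Groth.Agent.HenselDesc.Local
import Groth.Agent.CatLib.Completion
import Groth.Agent.CIRingLib.Completion
import Groth.Agent.RefHullLib.Generic
import Groth.Agent.S0549
import Mathlib.RingTheory.Ideal.KrullsHeightTheorem
import Mathlib.RingTheory.IntegralClosure.GoingDown
import Mathlib.RingTheory.AdicCompletion.LocalRing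

/-!
# Minimal ramified primes over a base pure in high codimension
-/

set_option autoImplicit false
set_option linter.style.haveILetI false
set_option backward.isDefEq.respectTransparency false
set_option backward.isDefEq.respectTransparency.types false
set_option maxHeartbeats 1000000

universe u

open CategoryTheory CategoryTheory.Limits AlgebraicGeometry
open scoped TensorProduct

noncomputable section

namespace RamMin

theorem isEquivalence_of_isPurePair (A : Type u) [CommRing A] [IsLocalRing A]
    (h : SGA2.IsPurePair (Spec (CommRingCat.of A)) (FEt.puncturedSpec A)) :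
    (FEt.restrict (FEt.puncturedSpec A).ι).IsEquivalence := by
  have h1 := h ⊤
  let U := FEt.puncturedSpec A
  let e : (U : Scheme.{u}) ≅ ((⊤ ⊓ U : (Spec (CommRingCat.of A)).Opens) : Scheme.{u}) :=
    (Spec (CommRingCat.of A)).isoOfEq (top_inf_eq U).symm
  haveI := Groth.Agent.PurePair.restrict_isEquivalence_of_iso _
    (e.hom ≫ (Spec (CommRingCat.of A)).homOfLE inf_le_left) e rfl h1
  haveI := Groth.Agent.PurePair.restrict_iso_isEquivalence (Spec (CommRingCat.of A)).topIso
  let c := MorphismProperty.Over.pullbackComp (P := FEt.prop.{u}) (Q := ⊤)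
    (e.hom ≫ (Spec (CommRingCat.of A)).homOfLE (inf_le_left : ⊤ ⊓ U ≤ ⊤))
    (Spec (CommRingCat.of A)).topIso.hom U.ι (by simp [e])
  haveI : (FEt.restrict (Spec (CommRingCat.of A)).topIso.hom ⋙
      FEt.restrict (e.hom ≫ (Spec (CommRingCat.of A)).homOfLE (inf_le_left : ⊤ ⊓ U ≤ ⊤))).IsEquivalence :=
    inferInstance
  exact @Functor.isEquivalence_of_iso _ _ _ _ _ _ c.symm this

variable {A B : Type u} [CommRing A] [CommRing B] [Algebra A B]

theorem exists_prime_of_fields {C k K L : Type u} [CommRing C] [Algebra A C] [Field k] [Field K] [Field L]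
    [Algebra k K] [Algebra k L] (fC : C →+* K) (gB : B →+* L) (h : A →+* k)
    (hf : ∀ a, fC (algebraMap A C a) = algebraMap k K (h a))
    (hg : ∀ a, gB (algebraMap A B a) = algebraMap k L (h a)) :
    ∃ (M : Ideal (C ⊗[A] B)) (_ : M.IsPrime),
      M.comap (Algebra.TensorProduct.includeRight (R := A) (A := C) (B := B)).toRingHom = RingHom.ker gB ∧
      M.comap (algebraMap C (C ⊗[A] B)) = RingHom.ker fC := by
  let F := K ⊗[k] L
  haveI : Nontrivial F := inferInstance
  obtain ⟨N, hN⟩ := Ideal.exists_maximal F
  let f : C →+* F := (Algebra.TensorProduct.includeLeft (R := k) (S := k) (A := K) (B := L)).toRingHom.comp fC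
  let g : B →+* F := (Algebra.TensorProduct.includeRight (R := k) (A := K) (B := L)).toRingHom.comp gB
  have hfg : ∀ a : A, f (algebraMap A C a) = g (algebraMap A B a) := fun a => by
    show fC (algebraMap A C a) ⊗ₜ[k] (1 : L) = (1 : K) ⊗ₜ[k] gB (algebraMap A B a)
    rw [hf, hg, Algebra.algebraMap_eq_smul_one, Algebra.algebraMap_eq_smul_one, TensorProduct.smul_tmul]
  letI : Algebra A F := (f.comp (algebraMap A C)).toAlgebra
  let fA : C →ₐ[A] F := { f with commutes' := fun _ => rfl }
  let gA : B →ₐ[A] F := { g with commutes' := fun a => (hfg a).symm }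
  let Φ : C ⊗[A] B →ₐ[A] F := Algebra.TensorProduct.lift fA gA fun _ _ => Commute.all _ _
  refine ⟨N.comap Φ.toRingHom, inferInstance, ?_, ?_⟩
  · rw [Ideal.comap_comap]
    have : Φ.toRingHom.comp (Algebra.TensorProduct.includeRight (R := A) (A := C) (B := B)).toRingHom = g :=
      RingHom.ext fun b => by simp [Φ, gA, fA]
    rw [this, ← Ideal.comap_comap, Ideal.eq_bot_of_prime (N.comap
      (Algebra.TensorProduct.includeRight (R := k) (A := K) (B := L)).toRingHom), ← RingHom.ker_eq_comap_bot]
  · rw [Ideal.comap_comap]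
    have : Φ.toRingHom.comp (algebraMap C (C ⊗[A] B)) = f :=
      RingHom.ext fun c => by simp [Φ, gA, fA]
    rw [this, ← Ideal.comap_comap, Ideal.eq_bot_of_prime (N.comap
      (Algebra.TensorProduct.includeLeft (R := k) (S := k) (A := K) (B := L)).toRingHom), ← RingHom.ker_eq_comap_bot]

theorem exists_prime_tensor (C : Type u) [CommRing C] [IsLocalRing C] [Algebra A C] (q : Ideal B) [q.IsPrime]
    (P : Ideal A) [P.IsPrime] [q.LiesOver P] [Algebra (Localization.AtPrime P) C]
    [IsScalarTower A (Localization.AtPrime P) C] [IsLocalHom (algebraMap (Localization.AtPrime P) C)] :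
    ∃ (M : Ideal (C ⊗[A] B)) (_ : M.IsPrime),
      M.comap (Algebra.TensorProduct.includeRight (R := A) (A := C) (B := B)).toRingHom = q ∧
      M.comap (algebraMap C (C ⊗[A] B)) = IsLocalRing.maximalIdeal C := by
  let φ : IsLocalRing.ResidueField (Localization.AtPrime P) →+* IsLocalRing.ResidueField C :=
    IsLocalRing.ResidueField.map (algebraMap (Localization.AtPrime P) C)
  let ψ := Ideal.ResidueField.map P q (algebraMap A B) (q.over_def P)
  letI a1 : Algebra P.ResidueField (IsLocalRing.ResidueField C) := φ.toAlgebra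
  letI a2 : Algebra P.ResidueField q.ResidueField := ψ.toAlgebra
  obtain ⟨M, hMp, h1, h2⟩ := exists_prime_of_fields (A := A) (B := B) (k := P.ResidueField)
    (IsLocalRing.residue C) (algebraMap B q.ResidueField) (algebraMap A P.ResidueField)
    (fun a => by
      show IsLocalRing.residue C (algebraMap A C a) = φ (algebraMap A P.ResidueField a)
      rw [IsScalarTower.algebraMap_apply A (Localization.AtPrime P) C]
      rfl)
    (fun a => (Ideal.ResidueField.map_algebraMap P q (algebraMap A B) (q.over_def P) a).symm)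
  exact ⟨M, hMp, h1.trans (Ideal.ker_algebraMap_residueField q), h2.trans IsLocalRing.ker_residue⟩

/-- Every minimal ramified prime of a normal finite extension has small height. -/
theorem height_lt (A : Type u) [CommRing A] [IsDomain A] [IsNoetherianRing A] [IsIntegrallyClosed A] (r : ℕ)
    (hpure : ∀ (P : Ideal A) [P.IsPrime], (r : ℕ∞) ≤ P.height →
      SGA2.IsPurePair (Spec (CommRingCat.of (AdicCompletion (IsLocalRing.maximalIdeal (Localization.AtPrime P)) (Localization.AtPrime P))))
        (FEt.puncturedSpec (AdicCompletion (IsLocalRing.maximalIdeal (Localization.AtPrime P)) (Localization.AtPrime P))))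
    (B : Type u) [CommRing B] [IsDomain B] [IsIntegrallyClosed B] [Algebra A B] [Module.Finite A B]
    (hinj : Function.Injective (algebraMap A B)) (q : Ideal B) [q.IsPrime] (hq : ¬ Algebra.IsUnramifiedAt A q)
    (hmin : ∀ (q' : Ideal B) [q'.IsPrime], q' ≤ q → ¬ Algebra.IsUnramifiedAt A q' → q' = q) :
    q.height < (r : ℕ∞) := by
  by_contra hr
  rw [not_lt] at hr
  haveI : IsNoetherianRing B := IsNoetherianRing.of_finite A B
  haveI : FaithfulSMul A B := (faithfulSMul_iff_algebraMap_injective A B).2 hinj
  let P := q.under A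
  haveI : q.LiesOver P := q.over_under
  have hht : P.height = q.height := le_antisymm
    (by rw [Ideal.height_eq_height_add_of_liesOver_of_hasGoingDown P q]; exact le_self_add)
    (PurityLib.height_le_under' q)
  let Ap := Localization.AtPrime P
  let C := AdicCompletion (IsLocalRing.maximalIdeal Ap) Ap
  haveI : IsDomain Ap := IsLocalization.isDomain_localization P.primeCompl_le_nonZeroDivisors
  haveI : IsNoetherianRing Ap := IsLocalization.isNoetherianRing P.primeCompl _ inferInstance
  haveI : IsIntegrallyClosed Ap :=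
    isIntegrallyClosed_of_isLocalization Ap P.primeCompl P.primeCompl_le_nonZeroDivisors
  haveI := CIRingLib.isNoetherianRing_cpl Ap
  haveI : Module.FaithfullyFlat Ap C := CIRingLib.flat_cpl Ap
  haveI : Module.Flat A Ap := IsLocalization.flat Ap P.primeCompl
  haveI : Module.Flat A C := Module.Flat.trans A Ap C
  have hmC : (IsLocalRing.maximalIdeal Ap).map (algebraMap Ap C) = IsLocalRing.maximalIdeal C :=
    AdicCompletion.maximalIdeal_eq_map.symm
  haveI : IsLocalHom (algebraMap Ap C) := ((IsLocalRing.local_hom_TFAE _).out 2 0).1 hmC.le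
  have hdimAp : ringKrullDim Ap = q.height := by
    rw [IsLocalization.AtPrime.ringKrullDim_eq_height P, hht]
  have heqv := isEquivalence_of_isPurePair C (hpure P (hht ▸ hr))
  rcases eq_or_ne q.height 0 with h0 | h0
  · refine not_isEquivalence_of_isField ?_ heqv
    haveI : Ring.KrullDimLE 0 Ap := by
      rw [Ring.krullDimLE_iff, hdimAp, h0]
      simp
    rw [IsLocalRing.isField_iff_maximalIdeal_eq, ← hmC, Ideal.map_eq_bot_iff_le_ker]
    intro x hx
    rw [RingHom.mem_ker, Ideal.mem_bot.1 ((SetLike.ext_iff.1
      (IsLocalRing.isField_iff_maximalIdeal_eq.1 Ring.KrullDimLE.isField_of_isDomain) x).1 hx), map_zero]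
  rcases eq_or_ne q.height 1 with h1 | h1
  · haveI : IsDiscreteValuationRing Ap := by
      have hne : IsLocalRing.maximalIdeal Ap ≠ ⊥ := fun hb => h0 (by
        have := IsLocalRing.maximalIdeal_height_eq_ringKrullDim (R := Ap)
        rw [hb, Ideal.height_bot, hdimAp] at this
        exact (WithBot.coe_inj.1 this).symm)
      have hiff : IsDiscreteValuationRing Ap ↔
          IsIntegrallyClosed Ap ∧ ∃! R : Ideal Ap, R ≠ ⊥ ∧ R.IsPrime :=
        (IsDiscreteValuationRing.TFAE Ap fun hf => hne (IsLocalRing.isField_iff_maximalIdeal_eq.1 hf)).out 0 3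
      refine hiff.2 ⟨inferInstance, IsLocalRing.maximalIdeal Ap, ⟨hne, inferInstance⟩, ?_⟩
      rintro R ⟨hR0, hR⟩
      by_contra hne'
      have hlt : R < IsLocalRing.maximalIdeal Ap := lt_of_le_of_ne (IsLocalRing.le_maximalIdeal hR.ne_top) hne'
      have h3 := Ideal.height_add_one_le_of_lt_of_isPrime hlt
      have h4 := Ideal.height_add_one_le_of_lt_of_isPrime (show (⊥ : Ideal Ap) < R from bot_lt_iff_ne_bot.2 hR0)
      have h5 : (IsLocalRing.maximalIdeal Ap).height = 1 := WithBot.coe_inj.1
        (IsLocalRing.maximalIdeal_height_eq_ringKrullDim.trans (hdimAp.trans (by rw [h1])))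
      rw [Ideal.height_bot, zero_add] at h4
      rw [h5] at h3
      exact absurd ((add_le_add h4 le_rfl).trans h3) (by norm_num)
    obtain ⟨hdom, hdvr⟩ := (Groth.Agent.S0549.result Ap).1 ⟨inferInstance, inferInstance⟩
    haveI := hdom
    haveI := hdvr
    haveI := heqv
    exact not_purityHolds_of_dvr (O := C) (inferInstance : (FEt.restrict (FEt.puncturedSpec C).ι).EssSurj)
  have h2 : (2 : ℕ∞) ≤ q.height :=
    Order.add_one_le_of_lt (lt_of_le_of_ne (Order.one_le_iff_ne_zero.2 h0) (Ne.symm h1))
  have hC : (2 : ℕ∞) ≤ LocCoh.depth C C := by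
    rw [HenselDesc.depth_eq_of_flat_unramified (A := Ap) (B := C) hmC]
    exact RefHullLib.two_le_depth_normal (by rw [hdimAp]; exact WithBot.coe_le_coe.2 h2)
  have hcomap : (IsLocalRing.maximalIdeal C).comap (algebraMap A C) = P := by
    rw [IsScalarTower.algebraMap_eq A Ap C, ← Ideal.comap_comap, IsLocalRing.maximalIdeal_comap]
    exact Localization.AtPrime.under_maximalIdeal
  have hmC' : P.map (algebraMap A C) = IsLocalRing.maximalIdeal C := by
    rw [IsScalarTower.algebraMap_eq A Ap C, ← Ideal.map_map, Localization.AtPrime.map_eq_maximalIdeal, hmC]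
  obtain ⟨M, hMp, hM, hMC⟩ := exists_prime_tensor C q P
  haveI := heqv
  haveI : Algebra.Etale C (Localization.AtPrime M) := formallyUnramified_branch C hinj hC
    (inferInstance : (FEt.restrict (FEt.puncturedSpec C).ι).EssSurj) q hcomap.symm (by rw [hcomap, hmC']) h2
    (fun Q _ hQ => not_not.1 fun hQr => hQ.ne (hmin Q hQ.le hQr)) M hM hMC
  refine hq (isUnramifiedAt_of_branch C q P hmC (fun c => ?_) M hM hMC inferInstance)
  obtain ⟨a, ha⟩ := GabberRigidLib.exists_sub_mem_pow (IsNoetherian.noetherian _) 1 c
  refine ⟨a, ?_⟩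
  rwa [pow_one, hmC] at ha

end RamMin
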